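import Cfsg.Agent.Lib.SelfCent.SD
import Cfsg.Agent.Lib.SelfCent.Torus
import Cfsg.Agent.Lib.PGroups.MaximalClass
import Cfsg.Agent.S0646
import Cfsg.Agent.S0508

/-!
# From "non-cyclic subgroups contain their centralizers" to `PSL₂(q)`
-/

set_option autoImplicit false
set_option linter.unusedSectionVars false
set_option linter.style.haveILetI false

open scoped MatrixGroups

namespace Cfsg.Agent.Lib.SelfCent.Forward

open Subgroup Cfsg Cfsg.Agent.Lib.SelfCent.Key Cfsg.Agent.Lib.SelfCent.SD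
open Cfsg.Agent.Lib.PGroups.MaximalClass Cfsg.Agent.Lib.TwoGroups.Present

variable {G : Type*} [Group G]

/-- A Klein four-subgroup has a non-trivial element different from any given element. -/
lemma exists_klein_ne [Finite G] {V : Subgroup G} (hV : IsKleinFour V) (t : G) :
    ∃ u ∈ V, u ≠ 1 ∧ u ≠ t := by
  classical
  haveI := Fintype.ofFinite V
  have hc : Fintype.card V = 4 := IsKleinFour.card_four'
  by_contra hno
  push Not at hno
  have h1 : ∀ v : V, (v : G) ∈ ({1, t} : Finset G) := by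
    intro v
    simp only [Finset.mem_insert, Finset.mem_singleton]
    by_cases h2 : (v : G) = 1
    · exact Or.inl h2
    · exact Or.inr (hno v v.2 h2)
  have h2 := Finset.card_le_card_of_injOn (s := Finset.univ) (t := ({1, t} : Finset G))
    (fun v : V => (v : G)) (fun v _ => h1 v) (fun a _ b _ h => Subtype.ext h)
  have h3 : ({1, t} : Finset G).card ≤ 2 := Finset.card_le_two
  rw [Finset.card_univ, hc] at h2
  omega

lemma klein_mul_self {V : Subgroup G} (hV : IsKleinFour V) {v : G} (hv : v ∈ V) : v * v = 1 := by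
  have := IsKleinFour.mul_self (⟨v, hv⟩ : V)
  exact congrArg Subtype.val this

lemma klein_comm {V : Subgroup G} (hV : IsKleinFour V) {a b : G} (ha : a ∈ V) (hb : b ∈ V) :
    a * b = b * a := by
  have hc := IsKleinFour.isMulCommutative (G := V)
  have := hc.is_comm.comm (⟨a, ha⟩ : V) ⟨b, hb⟩
  exact congrArg Subtype.val this

/-- The Sylow `2`-subgroups are dihedral. -/
theorem sylow_dihedral [Finite G] (hSC : SC G) (hno : ∀ H : Subgroup G, H.index ≠ 2) (S : Sylow 2 G)
    {V : Subgroup G} (hV : IsKleinFour V) (hVS : V ≤ S) :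
    ∃ m : ℕ, 2 ≤ m ∧ Nonempty ((S : Subgroup G) ≃* DihedralGroup m) := by
  classical
  haveI : Fact (Nat.Prime 2) := ⟨Nat.prime_two⟩
  have hP : IsPGroup 2 (S : Subgroup G) := S.isPGroup'
  obtain ⟨n, hn⟩ := IsPGroup.iff_card.1 hP
  let A : Subgroup (S : Subgroup G) := V.subgroupOf S
  have hA : Nat.card A = 2 ^ 2 := by
    have h1 : Nat.card A = Nat.card V := Nat.card_congr (Subgroup.subgroupOfEquivOfLe hVS).toEquiv
    rw [h1, IsKleinFour.card_four]
    norm_num
  have hCV : centralizer (V : Set G) ≤ V := hSC V IsKleinFour.not_isCyclic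
  have hC : centralizer (A : Set (S : Subgroup G)) = A := by
    apply le_antisymm
    · intro x hx
      rw [Subgroup.mem_subgroupOf]
      apply hCV
      rw [mem_centralizer_iff]
      intro v hv
      have h1 := mem_centralizer_iff.1 hx ⟨v, hVS hv⟩ (by
        show (⟨v, hVS hv⟩ : (S : Subgroup G)) ∈ A
        rw [Subgroup.mem_subgroupOf]
        exact hv)
      exact congrArg Subtype.val h1
    · intro x hx
      rw [mem_centralizer_iff]
      intro a ha
      exact Subtype.ext (klein_comm hV (Subgroup.mem_subgroupOf.1 ha) (Subgroup.mem_subgroupOf.1 hx))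
  obtain ⟨v₁, hv₁, hv₁1, -⟩ := exists_klein_ne hV 1
  obtain ⟨v₂, hv₂, hv₂1, hv₂v₁⟩ := exists_klein_ne hV v₁
  let a₁ : (S : Subgroup G) := ⟨v₁, hVS hv₁⟩
  let a₂ : (S : Subgroup G) := ⟨v₂, hVS hv₂⟩
  have ha₁ : a₁ * a₁ = 1 := Subtype.ext (klein_mul_self hV hv₁)
  have ha₂ : a₂ * a₂ = 1 := Subtype.ext (klein_mul_self hV hv₂)
  have ha₁1 : a₁ ≠ 1 := fun h => hv₁1 (congrArg Subtype.val h)
  have ha₂1 : a₂ ≠ 1 := fun h => hv₂1 (congrArg Subtype.val h)
  have ha₁₂ : a₂ ≠ a₁ := fun h => hv₂v₁ (congrArg Subtype.val h)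
  have hn2 : 2 ≤ n := by
    have h1 : Nat.card A ∣ Nat.card (S : Subgroup G) := Subgroup.card_subgroup_dvd_card A
    rw [hA, hn] at h1
    exact (Nat.pow_dvd_pow_iff_le_right (by norm_num)).1 h1
  by_cases hn3 : n = 2
  · subst hn3
    refine ⟨2, le_rfl, ?_⟩
    haveI : NeZero 2 := ⟨by norm_num⟩
    refine nonempty_dihedral (a := a₁) (b := a₂) ?_ ha₂ ?_ ?_ ?_
    · exact orderOf_eq_prime (by rw [sq]; exact ha₁) ha₁1
    · have h1 : a₁⁻¹ = a₁ := inv_eq_of_mul_eq_one_left ha₁
      have h2 : a₂ * a₁ = a₁ * a₂ := Subtype.ext (klein_comm hV hv₂ hv₁)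
      rw [h1, h2, mul_inv_cancel_right]
    · intro h1
      obtain ⟨i, hi⟩ := Subgroup.mem_zpowers_iff.1 h1
      rcases Int.even_or_odd' i with ⟨m, rfl | rfl⟩
      · rw [zpow_mul, zpow_two, ha₁, one_zpow] at hi
        exact ha₂1 hi.symm
      · rw [zpow_add, zpow_mul, zpow_two, ha₁, one_zpow, one_mul, zpow_one] at hi
        exact ha₁₂ hi.symm
    · rw [hn]
      norm_num
  have hn3' : 3 ≤ n := by omega
  have hna : ∃ x y : (S : Subgroup G), x * y ≠ y * x := by
    by_contra hcomm
    push Not at hcomm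
    have h1 : (A : Subgroup (S : Subgroup G)) = ⊤ := by
      rw [← hC, eq_top_iff]
      intro x _
      rw [mem_centralizer_iff]
      intro a _
      exact hcomm a x
    have h2 := hA
    rw [h1, Subgroup.card_top, hn] at h2
    have h3 := Nat.pow_right_injective (le_refl 2) h2
    omega
  obtain ⟨C, hCc, hCi⟩ := exists_cyclic_index_two_of_class hn3' hn
    (class_of_self_centralizing n hn A hA hC)
  obtain ⟨a, b, hao, hb, hcase⟩ := Cfsg.Agent.S0646.result n hn3' hn C hCc hCi hna
  have hzi : (zpowers a).index = 2 := by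
    have h1 := Subgroup.card_mul_index (zpowers a)
    rw [Nat.card_zpowers, hao, hn] at h1
    obtain ⟨n', rfl⟩ : ∃ n', n = n' + 1 := ⟨n - 1, by omega⟩
    simp only [Nat.add_sub_cancel] at h1
    rw [pow_succ] at h1
    exact Nat.eq_of_mul_eq_mul_left (by positivity) h1
  have hcases : ∀ s : (S : Subgroup G), s ∈ zpowers a ∨ ∃ i : ℤ, s = a ^ i * b := by
    intro s
    by_cases h1 : s ∈ zpowers a
    · exact Or.inl h1
    · right
      have h2 : s * b⁻¹ ∈ zpowers a := by
        rw [Subgroup.mul_mem_iff_of_index_two hzi]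
        exact iff_of_false h1 (fun h3 => hb (by simpa using (zpowers a).inv_mem h3))
      obtain ⟨i, hi⟩ := Subgroup.mem_zpowers_iff.1 h2
      exact ⟨i, by rw [hi, inv_mul_cancel_right]⟩
  rcases hcase with ⟨hb2, hrel⟩ | ⟨hb2, hrel⟩ | ⟨h4, hb2, hrel⟩ | ⟨h4, hb2, hrel⟩
  · -- dihedral
    obtain ⟨n', rfl⟩ : ∃ n', n = n' + 1 := ⟨n - 1, by omega⟩
    simp only [Nat.add_sub_cancel] at hao
    refine ⟨2 ^ n', ?_, ?_⟩
    · calc 2 = 2 ^ 1 := by norm_num
        _ ≤ 2 ^ n' := Nat.pow_le_pow_right (by norm_num) (by omega)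
    · haveI : NeZero (2 ^ n') := ⟨by positivity⟩
      refine nonempty_dihedral hao (by rw [← sq]; exact hb2) hrel hb ?_
      rw [hn, pow_succ]
      ring
  · -- quaternion: only one involution
    exfalso
    obtain ⟨n', rfl⟩ : ∃ n', n = n' + 2 := ⟨n - 2, by omega⟩
    simp only [Nat.add_sub_cancel, show n' + 2 - 1 = n' + 1 by omega] at hao hb2
    have hzo : orderOf (a ^ (2 ^ n')) = 2 := by
      have h1 := orderOf_pow_orderOf_div (x := a) (n := 2) (by rw [hao]; positivity)
        (by rw [hao, pow_succ]; exact dvd_mul_left _ _)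
      rwa [hao, pow_succ, Nat.mul_div_cancel _ (by norm_num)] at h1
    have hz1 : a ^ (2 ^ n') ≠ 1 := by
      intro h1
      rw [h1, orderOf_one] at hzo
      omega
    have hinv : ∀ s : (S : Subgroup G), s * s = 1 → s ≠ 1 → s = a ^ (2 ^ n') := by
      intro s hs hs1
      rcases hcases s with h1 | ⟨i, rfl⟩
      · have h2 : orderOf s = 2 := orderOf_eq_prime (by rw [sq]; exact hs) hs1
        have h3 : (⟨s, h1⟩ : zpowers a) = ⟨a ^ (2 ^ n'), Subgroup.pow_mem _ (mem_zpowers a) _⟩ :=
          cyclic_involution_unique (by rw [Subgroup.orderOf_mk]; exact h2)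
            (by rw [Subgroup.orderOf_mk]; exact hzo)
        exact congrArg Subtype.val h3
      · exfalso
        have h2 : b * a ^ i = a ^ (-i) * b := by
          have h3 : b * a ^ i * b⁻¹ = (b * a * b⁻¹) ^ i := by rw [conj_zpow]
          rw [hrel, inv_zpow', ] at h3
          rw [← h3]
          group
        have h3 : a ^ i * b * (a ^ i * b) = b ^ 2 := by
          calc a ^ i * b * (a ^ i * b) = a ^ i * (b * a ^ i) * b := by group
            _ = a ^ i * (a ^ (-i) * b) * b := by rw [h2]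
            _ = b ^ 2 := by rw [sq]; group
        rw [h3, hb2] at hs
        exact hz1 hs
    have h1 := hinv a₁ ha₁ ha₁1
    have h2 := hinv a₂ ha₂ ha₂1
    exact ha₁₂ (h2.trans h1.symm)
  · -- modular
    exfalso
    obtain ⟨n', rfl⟩ : ∃ n', n = n' + 4 := ⟨n - 4, by omega⟩
    simp only [show n' + 4 - 1 = n' + 3 by omega, show n' + 4 - 2 = n' + 2 by omega] at hao hrel
    have haa : b * a ^ 2 * b⁻¹ = a ^ 2 := by
      rw [← conj_pow, hrel, ← pow_mul]
      have h1 : (1 + 2 ^ (n' + 2)) * 2 = 2 + 2 ^ (n' + 3) := by ring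
      rw [h1, pow_add, ← hao, pow_orderOf_eq_one, mul_one]
    have hcomm : ∀ s : (S : Subgroup G), s * a ^ 2 = a ^ 2 * s := by
      intro s
      rcases hcases s with h1 | ⟨i, rfl⟩
      · obtain ⟨i, rfl⟩ := Subgroup.mem_zpowers_iff.1 h1
        exact ((Commute.refl a).zpow_left i |>.pow_right 2).eq
      · have h2 : Commute (a ^ i) (a ^ 2) := (Commute.refl a).zpow_left i |>.pow_right 2
        have h3 : b * a ^ 2 = a ^ 2 * b := by
          calc b * a ^ 2 = b * a ^ 2 * b⁻¹ * b := by group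
            _ = a ^ 2 * b := by rw [haa]
        calc a ^ i * b * a ^ 2 = a ^ i * (b * a ^ 2) := by group
          _ = a ^ i * (a ^ 2 * b) := by rw [h3]
          _ = (a ^ i * a ^ 2) * b := by group
          _ = (a ^ 2 * a ^ i) * b := by rw [h2.eq]
          _ = a ^ 2 * (a ^ i * b) := by group
    have hmem : a ^ 2 ∈ A := by
      rw [← hC, mem_centralizer_iff]
      intro x _
      exact hcomm x
    have hV2 : ((a ^ 2 : (S : Subgroup G)) : G) ∈ V := Subgroup.mem_subgroupOf.1 hmem
    have h1 := klein_mul_self hV hV2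
    have h2 : a ^ 4 = 1 := by
      apply Subtype.ext
      have h3 : ((a ^ 4 : (S : Subgroup G)) : G) =
          ((a ^ 2 : (S : Subgroup G)) : G) * ((a ^ 2 : (S : Subgroup G)) : G) := by
        rw [← Subgroup.coe_mul, ← pow_add]
      rw [h3, h1]
      rfl
    have h3 : orderOf a ∣ 2 ^ 2 := orderOf_dvd_of_pow_eq_one (by norm_num; exact h2)
    rw [hao] at h3
    have h4' := (Nat.pow_dvd_pow_iff_le_right (by norm_num)).1 h3
    omega
  · -- quasi-dihedral
    exfalso
    obtain ⟨n', rfl⟩ : ∃ n', n = n' + 1 := ⟨n - 1, by omega⟩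
    simp only [Nat.add_sub_cancel] at hao
    refine no_quasiDihedral hSC S ⟨n', by omega, hn, a, b, hao, ?_, ?_⟩ hno
    · apply orderOf_eq_prime hb2
      rintro rfl
      exact hb (one_mem _)
    · rw [hrel]
      congr 2

open Cfsg.Agent.Lib.Classical.SL2.Dickson Cfsg.Agent.Lib.Classical.SL2.Tori
open Cfsg.Agent.Lib.SelfCent.Torus

local notation "PGL2" => Matrix.ProjGenLinGroup (Fin 2)
local notation "PSL2" => Matrix.ProjectiveSpecialLinearGroup (Fin 2)

theorem forward [Finite G] [IsSimpleGroup G] (hSC : SC G) {E : Subgroup G} (hE : IsKleinFour E) :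
    ∃ (F : Type) (_ : Field F) (_ : Fintype F),
      (Fintype.card F = 9 ∨ ((Fintype.card F).Prime ∧
        ∃ k : ℕ, Fintype.card F = 2 ^ k + 1 ∨ Fintype.card F = 2 ^ k - 1)) ∧
      Nonempty (G ≃* Matrix.ProjectiveSpecialLinearGroup (Fin 2) F) := by
  classical
  haveI : Fact (Nat.Prime 2) := ⟨Nat.prime_two⟩
  have hE2 : IsPGroup 2 E := IsPGroup.of_card (n := 2) (by rw [IsKleinFour.card_four]; norm_num)
  obtain ⟨S, hES⟩ := hE2.exists_le_sylow
  have hcardG : 4 ≤ Nat.card G := by
    have := Subgroup.card_le_card_group E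
    rwa [IsKleinFour.card_four] at this
  have hno : ∀ H : Subgroup G, H.index ≠ 2 := by
    intro H hH
    haveI : H.Normal := Subgroup.normal_of_index_eq_two hH
    rcases IsSimpleGroup.eq_bot_or_eq_top_of_normal H this with h1 | h1
    · rw [h1, Subgroup.index_bot] at hH
      omega
    · rw [h1, Subgroup.index_top] at hH
      omega
  obtain ⟨m, hm, hiso⟩ := sylow_dihedral hSC hno S hE hES
  -- central involution
  have hP : IsPGroup 2 (S : Subgroup G) := S.isPGroup'
  obtain ⟨v, hvE, hv1, -⟩ := exists_klein_ne hE 1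
  haveI : Nontrivial (S : Subgroup G) :=
    ⟨⟨⟨v, hES hvE⟩, 1, fun h => hv1 (congrArg Subtype.val h)⟩⟩
  haveI hZ := hP.center_nontrivial
  obtain ⟨t₀, ht₀⟩ : ∃ t₀ : center (S : Subgroup G), orderOf t₀ = 2 := by
    apply exists_prime_orderOf_dvd_card' 2
    obtain ⟨k, hk⟩ := IsPGroup.iff_card.1 (IsPGroup.to_subgroup hP (center (S : Subgroup G)))
    rw [hk]
    apply dvd_pow_self
    rintro rfl
    have h1 := Finite.one_lt_card (α := center (S : Subgroup G))
    rw [hk] at h1
    simp at h1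
  let t : G := ((t₀ : (S : Subgroup G)) : G)
  have ht : orderOf t = 2 := by
    rw [Subgroup.orderOf_coe, Subgroup.orderOf_coe]
    exact ht₀
  have htS : t ∈ (S : Subgroup G) := (t₀ : (S : Subgroup G)).2
  have htZ : ∀ s ∈ (S : Subgroup G), s * t = t * s := by
    intro s hs
    have h1 := Subgroup.mem_center_iff.1 t₀.2 ⟨s, hs⟩
    exact congrArg Subtype.val h1
  obtain ⟨u, huE, hu1, hut⟩ := exists_klein_ne hE t
  have hu : orderOf u = 2 := orderOf_eq_prime (by rw [sq]; exact klein_mul_self hE huE) hu1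
  have hcomm : t * u = u * t := (htZ u (hES huE)).symm
  have hO := oddCore_eq_bot hSC ht hu hut hcomm
  obtain ⟨F, iF, iF', hodd, ⟨e⟩⟩ := Cfsg.Agent.S0508.result S m hm hiso t ht htS htZ ⊥
    (by rw [hO, Subgroup.map_bot]) (by simp)
    (by
      intro s _ hns y hy
      exfalso
      apply hns
      rw [Subgroup.mem_centralizer_iff]
      intro g hg
      have : g = 1 := hg
      rw [this]
      simp)
    (by
      intro Y hY hne
      exact absurd (le_bot_iff.1 hY) hne)
  refine ⟨F, iF, iF', ?_, ⟨e⟩⟩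
  let φ : G →* PGL2 F := (tP (F := F)).comp e.toMonoidHom
  have hφ : Function.Injective φ := tP_injective.comp e.injective
  have hrange : ∀ x ∈ Lp F, ∃ g, φ g = x := by
    rintro x ⟨y, rfl⟩
    exact ⟨e.symm y, by simp [φ]⟩
  have hKey : ∀ t s y : PGL2 F, t ∈ Lp F → s ∈ Lp F → y ∈ Lp F → orderOf t = 2 → s * s = 1 →
      Odd (orderOf y) → s * y * s⁻¹ = y⁻¹ → t * y = y * t → t * s = s * t → y = 1 := by
    intro t s y ht hs hy h1 h2 h3 h4 h5 h6
    obtain ⟨t', rfl⟩ := hrange t ht
    obtain ⟨s', rfl⟩ := hrange s hs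
    obtain ⟨y', rfl⟩ := hrange y hy
    have h7 := key hSC (t := t') (s := s') (y := y') (by rwa [orderOf_injective φ hφ] at h1)
      (hφ (by simpa using h2)) (by rwa [orderOf_injective φ hφ] at h3)
      (hφ (by simpa using h4)) (hφ (by simpa using h5)) (hφ (by simpa using h6))
    rw [h7, map_one]
  obtain ⟨k, hk⟩ := torus_two_pow hodd hKey
  obtain ⟨p, hp⟩ := CharP.exists F
  obtain ⟨f, hpp, hq⟩ := FiniteField.card F p
  have hoddp : Odd p := by
    rw [hq] at hodd
    by_contra h
    rw [Nat.not_odd_iff_even] at h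
    have h2 : Even (p ^ (f : ℕ)) := h.pow_of_ne_zero f.pos.ne'
    exact (Nat.not_even_iff_odd.2 hodd) h2
  rw [hq] at hk ⊢
  rcases prime_or_nine hpp hoddp f.pos hk with h | h
  · right
    refine ⟨h, k, ?_⟩
    have h1 : 1 ≤ p ^ (f : ℕ) := Nat.one_le_pow _ _ hpp.pos
    rcases hk with h2 | h2
    · left
      omega
    · right
      omega
  · left
    exact h

theorem backward {F : Type*} [Field F] [Fintype F]
    (hq : Fintype.card F = 4 ∨ Fintype.card F = 9 ∨ ((Fintype.card F).Prime ∧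
      ∃ k : ℕ, Fintype.card F = 2 ^ k + 1 ∨ Fintype.card F = 2 ^ k - 1))
    (e : G ≃* Matrix.ProjectiveSpecialLinearGroup (Fin 2) F) : SC G := by
  classical
  intro H hH y hy
  let E := AlgebraicClosure F
  obtain ⟨p, hpc⟩ := CharP.exists F
  obtain ⟨f, hpp, hqf⟩ := FiniteField.card F p
  haveI : Fact p.Prime := ⟨hpp⟩
  haveI : CharP E p := charP_of_injective_algebraMap (algebraMap F E).injective p
  have hpq : p ∣ Fintype.card F := by
    rw [hqf]
    exact dvd_pow_self p f.pos.ne'
  have hqp : Fintype.card F ≤ p ^ 2 := by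
    rcases hq with h | h | ⟨h, -⟩
    · rw [h] at hpq ⊢
      have h1 : p ∣ 2 ^ 2 := by simpa using hpq
      have h2 := hpp.dvd_of_dvd_pow h1
      have h3 : p = 2 := (Nat.prime_dvd_prime_iff_eq hpp Nat.prime_two).1 h2
      rw [h3]
      norm_num
    · rw [h] at hpq ⊢
      have h1 : p ∣ 3 ^ 2 := by simpa using hpq
      have h2 := hpp.dvd_of_dvd_pow h1
      have h3 : p = 3 := (Nat.prime_dvd_prime_iff_eq hpp Nat.prime_three).1 h2
      rw [h3]
      norm_num
    · have h3 : p = Fintype.card F := (Nat.prime_dvd_prime_iff_eq hpp h).1 hpq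
      rw [h3]
      exact Nat.le_self_pow (by norm_num) _
  let φ : G →* PGL2 F := (tP (F := F)).comp e.toMonoidHom
  have hφ : Function.Injective φ := tP_injective.comp e.injective
  have hHL : H.map φ ≤ Lp F := by
    rintro _ ⟨g, _, rfl⟩
    exact ⟨e g, rfl⟩
  have hc : ∀ h ∈ H.map φ, h * φ y = φ y * h := by
    rintro _ ⟨g, hg, rfl⟩
    rw [← map_mul, ← map_mul]
    have h1 := Subgroup.mem_centralizer_iff.1 hy g hg
    rw [h1]
  have hH' : ¬ IsCyclic (H.map φ) := by
    intro h1
    apply hH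
    exact isCyclic_of_injective (H.equivMapOfInjective φ hφ).toMonoidHom
      (H.equivMapOfInjective φ hφ).injective
  have h1 := Cfsg.Agent.Lib.SelfCent.PSLCore.mem_of_commute (E := E) hqp (hT_of_cond hq) (H.map φ)
    hHL ⟨e y, rfl⟩ hc hH'
  obtain ⟨g, hg, hgy⟩ := h1
  rwa [hφ hgy] at hg

end Cfsg.Agent.Lib.SelfCent.Forward
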